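import Groth.Agent.Lib.Ratliff.DimOne
import Groth.Agent.Lib.UCat.Formal
import Mathlib

/-! # Ratliff's theorem: universally catenary local rings are formally catenary -/

set_option autoImplicit false
universe u

open IsLocalRing Order

namespace Groth.Agent.Ratliff

open UCat

variable {A : Type u} [CommRing A] [IsNoetherianRing A] [IsLocalRing A]

theorem formallyEquidim_quotient_iff_equidimOver (a : Ideal A) [Nontrivial (A ⧸ a)] :
    EGA4.IsFormallyEquidim (A ⧸ a) ↔ EquidimOver (a.map (algebraMap A (EGA4.Cpl A))) := by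
  let π := FlatDepth.cplQuotHom A (A ⧸ a) Ideal.Quotient.mk_surjective
  have hπ : Function.Surjective π := FlatDepth.cplQuotHom_surjective A (A ⧸ a) Ideal.Quotient.mk_surjective
  have hk : RingHom.ker π = a.map (algebraMap A (EGA4.Cpl A)) := by
    rw [FlatDepth.ker_cplQuotHom A (A ⧸ a) Ideal.Quotient.mk_surjective, Ideal.Quotient.algebraMap_eq, Ideal.mk_ker]
  rw [← isEquidim_quotient_iff]
  exact isEquidim_congr_iff ((Ideal.quotEquivOfEq hk.symm).trans (RingHom.quotientKerEquivOfSurjective hπ)).symm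

theorem dim_quotient_map_cpl (I : Ideal A) (hI : I ≠ ⊤) :
    ringKrullDim (EGA4.Cpl A ⧸ I.map (algebraMap A (EGA4.Cpl A))) = ringKrullDim (A ⧸ I) := by
  haveI := CplLocH7.isNoetherianRing_cpl A
  haveI := CplLocH7.faithfullyFlat_cpl A
  haveI := isLocalHom_cpl A
  rw [dim_quotient_map (B := EGA4.Cpl A) I hI, ringKrullDim_fibRing_cpl, add_zero]

theorem coheight_eq_of_minimal [IsDomain A] (hIH : ∀ p : Ideal A, [p.IsPrime] → p ≠ ⊥ → EGA4.IsFormallyEquidim (A ⧸ p))
    (hA : CAlg.IsCatenary A) (Q : PrimeSpectrum (EGA4.Cpl A)) (hQ : Q.asIdeal ∈ minimalPrimes (EGA4.Cpl A))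
    (hr : 2 ≤ Order.coheight Q) :
    Order.coheight Q = Order.coheight (⟨⊥, Ideal.isPrime_bot⟩ : PrimeSpectrum A) := by
  classical
  haveI := CplLocH7.isNoetherianRing_cpl A
  haveI := CplLocH7.faithfullyFlat_cpl A
  have hloc := isLocalHom_cpl A
  set f := algebraMap A (EGA4.Cpl A) with hf
  have hQ0 : Q.asIdeal.comap f = ⊥ := comap_minimalPrime_cpl hQ
  have hcatB := isCatenary_cpl A
  let others := ((minimalPrimes.finite_of_isNoetherianRing (EGA4.Cpl A)).toFinset).filter (· ≠ Q.asIdeal)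
  let bad : Finset (Ideal (EGA4.Cpl A)) :=
    (others.biUnion fun Q' => ((Q.asIdeal ⊔ Q').finite_minimalPrimes_of_isNoetherianRing).toFinset).filter
      (· ≠ maximalIdeal (EGA4.Cpl A))
  let avoid : Finset (Ideal A) := insert ⊥ (bad.image (Ideal.comap f))
  have hprime : ∀ I ∈ avoid, I.IsPrime := by
    intro I hI
    rcases Finset.mem_insert.mp hI with rfl | hI
    · exact Ideal.isPrime_bot
    obtain ⟨P, hP, rfl⟩ := Finset.mem_image.mp hI
    obtain ⟨Q', -, hP'⟩ := Finset.mem_biUnion.mp (Finset.mem_filter.mp hP).1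
    haveI := ((Set.Finite.mem_toFinset _).mp hP').isPrime
    exact Ideal.IsPrime.comap _
  have hne : maximalIdeal A ≠ ⊥ := by
    intro e
    have : maximalIdeal (EGA4.Cpl A) ≤ Q.asIdeal := by
      rw [CplLocH7.maximalIdeal_cpl, Ideal.map_le_iff_le_comap]
      exact e.le.trans bot_le
    rw [Order.coheight_eq_zero.mpr (fun (x : PrimeSpectrum (EGA4.Cpl A)) _ => (show x.asIdeal ≤ Q.asIdeal from
      (le_maximalIdeal x.2.ne_top).trans this))] at hr
    exact absurd hr (by decide)
  obtain ⟨a, ham, ha⟩ : ∃ a ∈ maximalIdeal A, ∀ I ∈ avoid, a ∉ I := by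
    by_contra hcon
    push Not at hcon
    have hsub : (maximalIdeal A : Set A) ⊆ ⋃ I ∈ (avoid : Set (Ideal A)), (id I : Ideal A) := fun x hx => by
      obtain ⟨I, hI, hxI⟩ := hcon x hx
      exact Set.mem_biUnion hI hxI
    obtain ⟨I, hI, hle⟩ := (Ideal.subset_union_prime (f := id) ⊥ ⊥ fun i hi _ _ => hprime i hi).mp hsub
    rcases Finset.mem_insert.mp hI with rfl | hI
    · exact hne (le_bot_iff.mp hle)
    obtain ⟨P, hP, rfl⟩ := Finset.mem_image.mp hI
    obtain ⟨hP, hPm⟩ := Finset.mem_filter.mp hP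
    obtain ⟨Q', -, hP'⟩ := Finset.mem_biUnion.mp hP
    refine hPm (le_antisymm (le_maximalIdeal ((Set.Finite.mem_toFinset _).mp hP').isPrime.ne_top) ?_)
    rw [CplLocH7.maximalIdeal_cpl, Ideal.map_le_iff_le_comap]
    exact hle
  have ha0 : a ≠ 0 := fun e => ha ⊥ (Finset.mem_insert_self _ _) (Ideal.mem_bot.mpr e)
  have haQ : f a ∉ Q.asIdeal := fun h => ha0 (by
    have : a ∈ Q.asIdeal.comap f := h
    rwa [hQ0, Ideal.mem_bot] at this)
  have htop : Q.asIdeal ⊔ Ideal.span {f a} ≤ maximalIdeal (EGA4.Cpl A) := by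
    refine sup_le (le_maximalIdeal Q.2.ne_top) ((Ideal.span_singleton_le_iff_mem _).mpr ?_)
    rw [CplLocH7.maximalIdeal_cpl]
    exact Ideal.mem_map_of_mem _ ham
  obtain ⟨P, hP, -⟩ := Ideal.exists_minimalPrimes_le htop
  let P' : PrimeSpectrum (EGA4.Cpl A) := ⟨P, hP.isPrime⟩
  have hcov : Q ⋖ P' := Hironaka.covBy_of_mem_minimalPrimes haQ hP
  have h1 := Hironaka.coheight_eq_add_one hcatB hcov
  have hPm : P ≠ maximalIdeal (EGA4.Cpl A) := fun e => by
    rw [h1, Order.coheight_eq_zero.mpr (fun (x : PrimeSpectrum (EGA4.Cpl A)) _ =>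
      (show x.asIdeal ≤ P'.asIdeal from (le_maximalIdeal x.2.ne_top).trans e.ge)), zero_add] at hr
    exact absurd hr (by decide)
  haveI := hP.isPrime
  have haP : f a ∈ P := hP.1.2 (Ideal.mem_sup_right (Ideal.mem_span_singleton_self _))
  have huniq : ∀ Q' ∈ minimalPrimes (EGA4.Cpl A), Q' ≤ P → Q' = Q.asIdeal := by
    intro Q' hQ' hle
    by_contra hne'
    have hQle : Q.asIdeal ≤ P := hcov.le
    refine ha (P.comap f) (Finset.mem_insert_of_mem (Finset.mem_image_of_mem _ (Finset.mem_filter.mpr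
      ⟨Finset.mem_biUnion.mpr ⟨Q', Finset.mem_filter.mpr ⟨(Set.Finite.mem_toFinset _).mpr hQ', hne'⟩,
        (Set.Finite.mem_toFinset _).mpr ⟨⟨hP.isPrime, sup_le hQle hle⟩, fun R hR hRP => ?_⟩⟩, hPm⟩))) haP
    let R' : PrimeSpectrum (EGA4.Cpl A) := ⟨R, hR.1⟩
    have hlt : Q < R' := lt_of_le_of_ne (le_sup_left.trans hR.2) fun e => hne' (by
      haveI := hQ'.isPrime
      exact le_antisymm (e ▸ le_sup_right.trans hR.2 : Q' ≤ Q.asIdeal)
        (hQ.2 ⟨hQ'.isPrime, bot_le⟩ (e ▸ le_sup_right.trans hR.2)))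
    rcases (show R' ≤ P' from hRP).eq_or_lt with e | e
    · exact (congrArg PrimeSpectrum.asIdeal e).ge
    · exact absurd e (hcov.2 hlt)
  have hPmin : P ∈ ((Ideal.span {a}).map f).minimalPrimes := by
    rw [Ideal.map_span, Set.image_singleton]
    refine ⟨⟨hP.isPrime, (Ideal.span_singleton_le_iff_mem _).mpr haP⟩, fun R hR hRP => hP.2 ⟨hR.1, sup_le ?_ hR.2⟩ hRP⟩
    haveI := hR.1
    obtain ⟨Q', hQ', hle⟩ := Ideal.exists_minimalPrimes_le (show (⊥ : Ideal (EGA4.Cpl A)) ≤ R from bot_le)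
    exact huniq Q' hQ' (hle.trans hRP) ▸ hle
  obtain ⟨hp, hPp⟩ := comap_mem_minimalPrimes hPmin
  set p := P.comap f
  haveI : Nontrivial (A ⧸ p) := Ideal.Quotient.nontrivial_iff.mpr hp.isPrime.ne_top
  have hap : a ∈ p := haP
  have hpne : p ≠ ⊥ := fun e => ha0 (Ideal.mem_bot.mp (e ▸ hap))
  have hd := (formallyEquidim_quotient_iff_equidimOver p).mp (hIH p hpne) P hPp
  rw [dim_quotient_map_cpl p hp.isPrime.ne_top, ← Hironaka.coheight_eq_ringKrullDim_quotient P',
    ← Hironaka.coheight_eq_ringKrullDim_quotient (⟨p, hp.isPrime⟩ : PrimeSpectrum A)] at hd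
  have hd' : Order.coheight P' = Order.coheight (⟨p, hp.isPrime⟩ : PrimeSpectrum A) := WithBot.coe_inj.mp hd
  have hcovA : (⟨⊥, Ideal.isPrime_bot⟩ : PrimeSpectrum A) ⋖ ⟨p, hp.isPrime⟩ :=
    Hironaka.covBy_of_mem_minimalPrimes (t := a) (fun h => ha0 (Ideal.mem_bot.mp h)) (by rwa [bot_sup_eq])
  rw [h1, hd', Hironaka.coheight_eq_add_one hA hcovA]

theorem formallyEquidim_of_isDomain : ∀ (d : ℕ) (A : Type u) [CommRing A] [IsNoetherianRing A] [IsLocalRing A]
    [IsDomain A], CAlg.IsUniversallyCatenary A → ringKrullDim A ≤ (d : WithBot ℕ∞) → EGA4.IsFormallyEquidim A := by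
  intro d
  induction d using Nat.strong_induction_on with
  | _ d ih =>
    intro A _ _ _ _ hU hd
    haveI := CplLocH7.isNoetherianRing_cpl A
    haveI := CplLocH7.faithfullyFlat_cpl A
    have hA := isCatenary_of_isUniversallyCatenary hU
    let bot : PrimeSpectrum A := ⟨⊥, Ideal.isPrime_bot⟩
    obtain ⟨D, hD⟩ := ENat.ne_top_iff_exists.mp (Hironaka.coheight_ne_top bot)
    have hdimA : ringKrullDim A = (D : WithBot ℕ∞) := by
      have h := Hironaka.coheight_eq_ringKrullDim_quotient bot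
      rw [← ringKrullDim_eq_of_ringEquiv (RingEquiv.quotientBot A), ← h, ← hD]
      rfl
    have hDd : D ≤ d := by rw [hdimA] at hd; exact_mod_cast hd
    have hIH : ∀ p : Ideal A, [p.IsPrime] → p ≠ ⊥ → EGA4.IsFormallyEquidim (A ⧸ p) := by
      intro p _ hp
      let x : PrimeSpectrum A := ⟨p, inferInstance⟩
      have hlt : bot < x := lt_of_le_of_ne (show (⊥ : Ideal A) ≤ p from bot_le) fun e =>
        hp (congrArg PrimeSpectrum.asIdeal e).symm
      have h1 := Order.coheight_strictAnti hlt (Hironaka.coheight_ne_top x).lt_top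
      obtain ⟨e, he⟩ := ENat.ne_top_iff_exists.mp (Hironaka.coheight_ne_top x)
      rw [← he, ← hD] at h1
      refine ih e (lt_of_lt_of_le (by exact_mod_cast h1) hDd) (A ⧸ p)
        (isUniversallyCatenary_of_surjective (Ideal.Quotient.mk p) Ideal.Quotient.mk_surjective hU) (le_of_eq ?_)
      rw [← Hironaka.coheight_eq_ringKrullDim_quotient x, ← he]
      rfl
    intro Q hQ
    haveI := hQ.isPrime
    rw [show ringKrullDim (AdicCompletion (maximalIdeal A) A) = ringKrullDim A by
      rw [← ringKrullDim_eq_of_ringEquiv (RingEquiv.quotientBot A), ← dim_quotient_map_cpl (⊥ : Ideal A) bot_ne_top,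
        Ideal.map_bot]
      exact (ringKrullDim_eq_of_ringEquiv (RingEquiv.quotientBot _)).symm]
    let Q' : PrimeSpectrum (EGA4.Cpl A) := ⟨Q, hQ.isPrime⟩
    rw [← Hironaka.coheight_eq_ringKrullDim_quotient Q']
    suffices h : Order.coheight Q' = Order.coheight bot by
      rw [h, ← hD, hdimA]; rfl
    rcases lt_or_ge (Order.coheight Q') 2 with hlt | hge
    · obtain ⟨r, hr⟩ := ENat.ne_top_iff_exists.mp (Hironaka.coheight_ne_top Q')
      have hle : Order.coheight Q' ≤ Order.coheight bot := by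
        refine WithBot.coe_le_coe.mp ?_
        rw [Hironaka.coheight_eq_ringKrullDim_quotient, Hironaka.coheight_eq_ringKrullDim_quotient,
          ← dim_quotient_map_cpl (⊥ : Ideal A) bot_ne_top]
        exact ringKrullDim_le_of_surjective
          (Ideal.Quotient.factor (S := (⊥ : Ideal A).map (algebraMap A (EGA4.Cpl A))) (T := Q) (by rw [Ideal.map_bot]; exact bot_le))
          (Ideal.Quotient.factor_surjective _)
      rw [← hr, ← hD] at hle ⊢
      rw [← hr] at hlt
      norm_cast at hle hlt ⊢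
      by_contra hne
      have hDr : r < D := lt_of_le_of_ne hle hne
      have htop : ∀ P : Ideal (EGA4.Cpl A), P.IsPrime → Q ≤ P → P = Q ∨ P = maximalIdeal (EGA4.Cpl A) := by
        intro P hP hQP
        by_contra hcon
        push Not at hcon
        let p1 : PrimeSpectrum (EGA4.Cpl A) := ⟨P, hP⟩
        let p2 : PrimeSpectrum (EGA4.Cpl A) := ⟨maximalIdeal _, inferInstance⟩
        have l1 : Q' < p1 := lt_of_le_of_ne hQP fun e => hcon.1 (congrArg PrimeSpectrum.asIdeal e).symm
        have l2 : p1 < p2 := lt_of_le_of_ne (le_maximalIdeal hP.ne_top) fun e => hcon.2 (congrArg PrimeSpectrum.asIdeal e)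
        have a1 := Order.coheight_strictAnti l2 (Hironaka.coheight_ne_top _).lt_top
        have a2 := Order.coheight_strictAnti l1 (Hironaka.coheight_ne_top _).lt_top
        have a3 := (Order.one_le_iff_pos.mpr (pos_of_gt a1)).trans_lt a2
        rw [← hr] at a3
        norm_cast at a3
        omega
      by_cases hD2 : 2 ≤ D
      · exact dim_le_one_of_minimalPrime (hU.2 _ inferInstance) hQ htop (hdimA ▸ by exact_mod_cast hD2)
      have hr0 : r = 0 := by omega
      subst hr0
      have hmax : maximalIdeal (EGA4.Cpl A) ≤ Q := Order.coheight_eq_zero.mp hr.symm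
        (show Q' ≤ ⟨maximalIdeal _, inferInstance⟩ from le_maximalIdeal hQ.isPrime.ne_top)
      have hm : maximalIdeal A = ⊥ := le_bot_iff.mp (by
        rw [← comap_minimalPrime_cpl hQ, ← Ideal.map_le_iff_le_comap, ← CplLocH7.maximalIdeal_cpl]
        exact hmax)
      rw [ringKrullDim_eq_zero_of_isField (isField_iff_maximalIdeal_eq.mpr hm)] at hdimA
      have : D = 0 := by exact_mod_cast hdimA.symm
      omega
    · exact coheight_eq_of_minimal hIH hA Q' hQ hge

/-- Ratliff: a universally catenary Noetherian local ring is formally catenary. -/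
theorem isFormallyCatenary_of_isUniversallyCatenary (A : Type u) [CommRing A] [IsNoetherianRing A] [IsLocalRing A]
    (hA : CAlg.IsUniversallyCatenary A) : EGA4.IsFormallyCatenary A := by
  intro p _
  obtain ⟨d, hd⟩ := DepthLib.exists_supportDim_eq_natCast (R := A ⧸ p) (M := A ⧸ p)
  rw [Module.supportDim_self_eq_ringKrullDim] at hd
  exact formallyEquidim_of_isDomain d (A ⧸ p)
    (isUniversallyCatenary_of_surjective (Ideal.Quotient.mk p) Ideal.Quotient.mk_surjective hA) hd.le

end Groth.Agent.Ratliff
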