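import Groth.Agent.Lib.Ratliff.Main
import Mathlib

/-! # Consequences of Ratliff's theorem -/

set_option autoImplicit false
universe u

open IsLocalRing

namespace Groth.Agent.Ratliff

open UCat

theorem isEquidim_of_isDomain (A : Type u) [CommRing A] [IsDomain A] : EGA4.IsEquidim A := by
  intro p hp
  have hp' : p = ⊥ := le_bot_iff.mp (hp.2 ⟨Ideal.isPrime_bot, bot_le⟩ bot_le)
  subst hp'
  exact ringKrullDim_eq_of_ringEquiv (RingEquiv.quotientBot A)

variable (A : Type u) [CommRing A] [IsNoetherianRing A] [IsLocalRing A]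

theorem isFormallyCatenary_of_formallyEquidim (h : EGA4.IsFormallyEquidim A) : EGA4.IsFormallyCatenary A :=
  fun p _ => (formallyEquidim_quotient_iff A h p).mp (isEquidim_of_isDomain (A ⧸ p))

theorem formallyEquidim_iff_minimalPrimes :
    EGA4.IsFormallyEquidim A ↔
      (EGA4.IsEquidim A ∧ ∀ (p : Ideal A) [p.IsPrime], p ∈ minimalPrimes A → EGA4.IsFormallyEquidim (A ⧸ p)) := by
  refine ⟨fun h => ⟨(isEquidim_and_isCatenary_of_formallyEquidim A h).1,
    fun p _ _ => isFormallyCatenary_of_formallyEquidim A h p⟩, fun ⟨he, hp⟩ => ?_⟩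
  haveI := CplLocH7.isNoetherianRing_cpl A
  haveI := CplLocH7.faithfullyFlat_cpl A
  intro Q hQ
  have hQ' : Q ∈ ((⊥ : Ideal A).map (algebraMap A (EGA4.Cpl A))).minimalPrimes := by
    rw [Ideal.map_bot]; exact hQ
  obtain ⟨hmin, hQmin⟩ := comap_mem_minimalPrimes hQ'
  haveI := hmin.isPrime
  haveI : Nontrivial (A ⧸ Q.comap (algebraMap A (EGA4.Cpl A))) := Ideal.Quotient.nontrivial_iff.mpr hmin.isPrime.ne_top
  have := (formallyEquidim_quotient_iff_equidimOver _).mp (hp _ hmin) Q hQmin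
  rw [dim_quotient_map_cpl _ hmin.isPrime.ne_top, he _ hmin] at this
  show ringKrullDim (EGA4.Cpl A ⧸ Q) = ringKrullDim (EGA4.Cpl A)
  rw [this, ← ringKrullDim_eq_of_ringEquiv (RingEquiv.quotientBot A), ← dim_quotient_map_cpl (⊥ : Ideal A) bot_ne_top,
    Ideal.map_bot]
  exact ringKrullDim_eq_of_ringEquiv (RingEquiv.quotientBot _)

theorem formallyEquidim_of_isUniversallyCatenary_of_isEquidim (hU : CAlg.IsUniversallyCatenary A)
    (he : EGA4.IsEquidim A) : EGA4.IsFormallyEquidim A :=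
  (formallyEquidim_iff_minimalPrimes A).mpr
    ⟨he, fun p _ _ => isFormallyCatenary_of_isUniversallyCatenary A hU p⟩

end Groth.Agent.Ratliff
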