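import Groth.Agent.Lib.Ratliff.Finite
import Groth.Agent.Lib.UCat.Completion
import Groth.Agent.Lib.CplLocH7.Basic
import Mathlib

/-! # One-dimensional components of completions (Ratliff) -/

set_option autoImplicit false
universe u

open IsLocalRing TensorProduct

namespace Groth.Agent.Ratliff

theorem mem_map_colon {A B : Type u} [CommRing A] [CommRing B] [Algebra A B] [Module.Flat A B]
    {s : ℕ} (K : Ideal A) (g : Fin s → A) {u : B}
    (hu : ∀ i, u * algebraMap A B (g i) ∈ K.map (algebraMap A B)) :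
    ∃ N : Ideal A, (∀ x ∈ N, ∀ i, x * g i ∈ K) ∧ u ∈ N.map (algebraMap A B) := by
  let h : A →ₗ[A] (Fin s → A ⧸ K) := LinearMap.pi fun i => K.mkQ ∘ₗ LinearMap.mulRight A (g i)
  refine ⟨LinearMap.ker h, fun x hx i => ?_, ?_⟩
  · exact (Submodule.Quotient.mk_eq_zero K).mp (congrFun hx i)
  have hex : Function.Exact (LinearMap.lTensor B (LinearMap.ker h).subtype) (LinearMap.lTensor B h) :=
    Module.Flat.lTensor_exact B (LinearMap.exact_subtype_ker_map h)
  have h0 : LinearMap.lTensor B h (u ⊗ₜ (1 : A)) = 0 := by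
    apply (TensorProduct.piRight A A B (fun _ : Fin s => A ⧸ K)).injective
    rw [map_zero]
    funext i
    rw [LinearMap.lTensor_tmul, TensorProduct.piRight_apply, TensorProduct.piRightHom_tmul]
    show u ⊗ₜ (h 1 i) = 0
    apply (TensorProduct.tensorQuotEquivQuotSMul B K).injective
    rw [map_zero, show h 1 i = Ideal.Quotient.mk K (g i) by
      show Submodule.Quotient.mk (1 * g i) = _
      rw [one_mul]; rfl, TensorProduct.tensorQuotEquivQuotSMul_tmul_mk, Submodule.Quotient.mk_eq_zero,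
      Ideal.smul_top_eq_map, Submodule.restrictScalars_mem, Algebra.smul_def, mul_comm]
    exact hu i
  obtain ⟨t, ht⟩ := (hex _).mp h0
  have key : ∀ t : B ⊗[A] (LinearMap.ker h),
      TensorProduct.rid A B (LinearMap.lTensor B (LinearMap.ker h).subtype t) ∈
        Ideal.map (algebraMap A B) (LinearMap.ker h) := fun t => by
    induction t using TensorProduct.induction_on with
    | zero => simp
    | tmul b x =>
      rw [LinearMap.lTensor_tmul, TensorProduct.rid_tmul, Algebra.smul_def]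
      exact Ideal.mul_mem_right _ _ (Ideal.mem_map_of_mem _ x.2)
    | add x y hx hy => rw [map_add, map_add]; exact add_mem hx hy
  have h1 := key t
  rw [ht, TensorProduct.rid_tmul, one_smul] at h1
  exact h1

variable {A : Type u} [CommRing A] [IsDomain A] [IsNoetherianRing A] [IsLocalRing A]

theorem comap_minimalPrime_cpl {Q : Ideal (EGA4.Cpl A)} (hQ : Q ∈ minimalPrimes (EGA4.Cpl A)) :
    Q.comap (algebraMap A (EGA4.Cpl A)) = ⊥ := by
  haveI := CplLocH7.faithfullyFlat_cpl A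
  refine UCat.comap_eq_of_mem_minimalPrimes_map (p := (⊥ : Ideal A)) ?_
  rw [Ideal.map_bot]
  exact hQ

theorem exists_of_mem_maximalIdeal_pow (l : ℕ) {x : EGA4.Cpl A} (J : Ideal (EGA4.Cpl A))
    (hl : maximalIdeal (EGA4.Cpl A) ^ l ≤ J) (hx : x ∈ J) :
    x ∈ (J.comap (algebraMap A (EGA4.Cpl A))).map (algebraMap A (EGA4.Cpl A)) := by
  obtain ⟨a, ha⟩ := CplLocH7.exists_sub_mem_pow l x
  rw [← sub_add_cancel x (algebraMap A (EGA4.Cpl A) a)]
  refine add_mem ?_ (Ideal.mem_map_of_mem _ ?_)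
  · refine (?_ : maximalIdeal (EGA4.Cpl A) ^ l ≤ _) ha
    rw [CplLocH7.maximalIdeal_cpl, ← Ideal.map_pow]
    exact Ideal.map_mono (Ideal.map_le_iff_le_comap.mp (by rw [Ideal.map_pow, ← CplLocH7.maximalIdeal_cpl]; exact hl))
  · show algebraMap A (EGA4.Cpl A) a ∈ J
    rw [← sub_sub_cancel x (algebraMap A (EGA4.Cpl A) a)]
    exact sub_mem hx (hl ha)

theorem flat_rightAlgebra (B S : Type u) [CommRing B] [CommRing S] [Algebra A B] [Algebra A S] [Module.Flat A B] :
    letI : Algebra S (B ⊗[A] S) := Algebra.TensorProduct.rightAlgebra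
    Module.Flat S (B ⊗[A] S) := by
  letI : Algebra S (B ⊗[A] S) := Algebra.TensorProduct.rightAlgebra
  exact Module.Flat.of_linearEquiv (Algebra.TensorProduct.commRight A S B).symm.toLinearEquiv

theorem exists_element {Q : Ideal (EGA4.Cpl A)} (hQ : Q ∈ minimalPrimes (EGA4.Cpl A))
    (h1 : ∀ P : Ideal (EGA4.Cpl A), P.IsPrime → Q ≤ P → P = Q ∨ P = maximalIdeal (EGA4.Cpl A))
    (hdim : (2 : WithBot ℕ∞) ≤ ringKrullDim A) :
    ∃ (a : A) (u : EGA4.Cpl A) (K : ℕ) (N : Ideal A), a ≠ 0 ∧ u ≠ 0 ∧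
      u * u = algebraMap A (EGA4.Cpl A) a * u ∧ (∀ x ∈ Q ^ K, x * u = 0) ∧
      u ∈ N.map (algebraMap A (EGA4.Cpl A)) ∧
      ∀ x ∈ N, IsIntegral A (algebraMap A (Localization.Away a) x * IsLocalization.Away.invSelf a) := by
  classical
  haveI := CplLocH7.isNoetherianRing_cpl A
  haveI := CplLocH7.faithfullyFlat_cpl A
  haveI := hQ.isPrime
  set f := algebraMap A (EGA4.Cpl A) with hf
  have hQ0 := comap_minimalPrime_cpl hQ
  have hmne : maximalIdeal A ≠ ⊥ := fun e => by
    rw [ringKrullDim_eq_zero_of_isField (isField_iff_maximalIdeal_eq.mpr e)] at hdim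
    exact absurd hdim (by decide)
  let others := ((minimalPrimes.finite_of_isNoetherianRing (EGA4.Cpl A)).toFinset).filter (· ≠ Q)
  let I := others.inf id
  have hIQ : ¬ I ≤ Q := fun h => by
    obtain ⟨P, hP, hPQ⟩ := (Ideal.IsPrime.inf_le' ‹Q.IsPrime›).mp h
    obtain ⟨hPm, hne⟩ := Finset.mem_filter.mp hP
    exact hne (le_antisymm hPQ (hQ.2 ((Set.Finite.mem_toFinset _).mp hPm).1 hPQ))
  have hnil : ∀ x ∈ Q, ∀ y ∈ I, IsNilpotent (x * y) := fun x hx y hy => by
    rw [← mem_nilradical, nilradical_eq_sInf]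
    refine Submodule.mem_sInf.mpr fun P hP => ?_
    haveI hP' : Ideal.IsPrime P := hP
    obtain ⟨P', hP', hle⟩ := Ideal.exists_minimalPrimes_le (show (⊥ : Ideal (EGA4.Cpl A)) ≤ P from bot_le)
    refine hle ?_
    by_cases e : P' = Q
    · subst e; exact Ideal.mul_mem_right _ _ hx
    · exact Ideal.mul_mem_left _ _ ((Finset.inf_le (Finset.mem_filter.mpr
        ⟨(Set.Finite.mem_toFinset _).mpr hP', e⟩) : others.inf id ≤ P') hy)
  obtain ⟨k, hk⟩ : ∃ k : ℕ, (Q * I) ^ k ≤ ⊥ := by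
    have hle : Q * I ≤ nilradical (EGA4.Cpl A) := Ideal.mul_le.mpr fun x hx y hy => mem_nilradical.mpr (hnil x hx y hy)
    obtain ⟨k, hk⟩ := IsNoetherianRing.isNilpotent_nilradical (EGA4.Cpl A)
    exact ⟨k, (Ideal.pow_right_mono hle k).trans hk.le⟩
  obtain ⟨c, hc⟩ := Ideal.exists_pow_inf_eq_pow_smul Q (I ^ k)
  let K := c + k
  have hKI : Q ^ K ⊓ I ^ k ≤ ⊥ := by
    have h := hc K (Nat.le_add_right c k)
    rw [Ideal.smul_eq_mul, Ideal.mul_top, Nat.add_sub_cancel_left] at h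
    rw [h, Ideal.smul_eq_mul]
    refine le_trans (Ideal.mul_mono_right inf_le_right) ?_
    rw [← mul_pow]; exact hk
  obtain ⟨l, hl⟩ : ∃ l : ℕ, maximalIdeal (EGA4.Cpl A) ^ l ≤ Q ^ K ⊔ I ^ k := by
    refine Ideal.exists_pow_le_of_le_radical_of_fg ?_ (IsNoetherian.noetherian _)
    rw [Ideal.radical_eq_sInf]
    refine le_sInf fun P hP => ?_
    obtain ⟨hle, hP'⟩ := hP
    rcases h1 P hP' (hP'.le_of_pow_le (le_sup_left.trans hle)) with e | e
    · exact absurd (hP'.le_of_pow_le (le_sup_right.trans hle)) (e ▸ hIQ)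
    · exact e.ge
  set J := Q ^ K ⊔ I ^ k
  obtain ⟨a, haJ, ha0⟩ : ∃ a : A, f a ∈ J ∧ a ≠ 0 := by
    obtain ⟨a, ha, hane⟩ := Submodule.exists_mem_ne_zero_of_ne_bot hmne
    refine ⟨a ^ l, hl ?_, pow_ne_zero l hane⟩
    rw [CplLocH7.maximalIdeal_cpl, map_pow]
    exact Ideal.pow_mem_pow (Ideal.mem_map_of_mem _ ha) l
  obtain ⟨v, hv, u, hu, huv⟩ := Submodule.mem_sup.mp haJ
  have hzero : ∀ x ∈ Q ^ K, ∀ y ∈ I ^ k, x * y = 0 := fun x hx y hy =>
    Ideal.mem_bot.mp (hKI ⟨Ideal.mul_mem_right _ _ hx, Ideal.mul_mem_left _ _ hy⟩)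
  have huu : u * u = f a * u := by
    rw [← huv, add_mul, hzero v hv u hu, zero_add]
  have hune : u ≠ 0 := fun e => by
    rw [e, add_zero] at huv
    have hK : K ≠ 0 := by
      intro hK0
      have hk0 : k = 0 := by omega
      rw [hk0, pow_zero] at hk
      exact one_ne_zero (Ideal.mem_bot.mp (hk (by simp)))
    have : a ∈ Q.comap f := by
      show f a ∈ Q
      rw [← huv]
      exact Ideal.pow_le_self hK hv
    rw [hQ0, Ideal.mem_bot] at this
    exact ha0 this
  let J0 := J.comap f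
  obtain ⟨s, g, hg⟩ := Submodule.fg_iff_exists_fin_generating_family.mp (IsNoetherian.noetherian J0)
  have huJ : ∀ i, u * f (g i) ∈ (Ideal.span {a} * J0).map f := fun i => by
    have hgi : f (g i) ∈ J := (hg ▸ Submodule.subset_span ⟨i, rfl⟩ : g i ∈ J0)
    obtain ⟨x, hx, y, hy, hxy⟩ := Submodule.mem_sup.mp hgi
    rw [Ideal.map_mul, Ideal.map_span, Set.image_singleton,
      show u * f (g i) = f a * y by rw [← hxy, ← huv, mul_add, mul_comm u x, hzero x hx u hu, zero_add, add_mul,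
        hzero v hv y hy, zero_add]]
    exact Ideal.mul_mem_mul (Ideal.mem_span_singleton_self _)
      (exists_of_mem_maximalIdeal_pow l J hl (Submodule.mem_sup_right hy))
  obtain ⟨N, hN, huN⟩ := mem_map_colon _ g huJ
  let A' := Localization.Away a
  haveI : IsDomain A' := IsLocalization.isDomain_localization (powers_le_nonZeroDivisors_of_noZeroDivisors ha0)
  have hinjA : Function.Injective (algebraMap A A') :=
    IsLocalization.injective A' (powers_le_nonZeroDivisors_of_noZeroDivisors ha0)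
  let inv : A' := IsLocalization.Away.invSelf a
  have hinv : algebraMap A A' a * inv = 1 := IsLocalization.Away.mul_invSelf a
  have hJ0ne : (Submodule.map (Algebra.linearMap A A') J0) ≠ ⊥ := fun e => ha0 (hinjA (by
    rw [map_zero]
    exact (Submodule.mem_bot A).mp (e ▸ Submodule.mem_map_of_mem (show a ∈ J0 from haJ))))
  have hint : ∀ x ∈ N, IsIntegral A (algebraMap A A' x * inv) := fun x hx => by
    refine isIntegral_of_smul_mem_submodule (Submodule.map (Algebra.linearMap A A') J0) hJ0ne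
      ((IsNoetherian.noetherian J0).map _) _ ?_
    rintro _ ⟨j, hj, rfl⟩
    have hxj : x * j ∈ Ideal.span {a} * J0 := by
      rw [SetLike.mem_coe, ← hg, Submodule.mem_span_range_iff_exists_fun] at hj
      obtain ⟨c, rfl⟩ := hj
      rw [Finset.mul_sum]
      exact sum_mem fun i _ => by rw [smul_eq_mul, mul_left_comm]; exact Ideal.mul_mem_left _ _ (hN x hx i)
    obtain ⟨y, hy, hay⟩ := Ideal.mem_span_singleton_mul.mp hxj
    refine ⟨y, hy, ?_⟩
    show algebraMap A A' y = algebraMap A A' x * inv * algebraMap A A' j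
    rw [mul_right_comm, ← map_mul, ← hay, map_mul, mul_comm (algebraMap A A' a), mul_assoc, hinv, mul_one]
  exact ⟨a, u, K, N, ha0, hune, huu, fun x hx => hzero x hx u hu, huN, hint⟩

theorem exists_finite_subalgebra (a : A) (N : Ideal A)
    (hint : ∀ x ∈ N, IsIntegral A (algebraMap A (Localization.Away a) x * IsLocalization.Away.invSelf a)) :
    ∃ A1 : Subalgebra A (Localization.Away a), Module.Finite A A1 ∧
      ∀ x ∈ N, algebraMap A (Localization.Away a) x * IsLocalization.Away.invSelf a ∈ A1 := by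
  let A' := Localization.Away a
  let inv : A' := IsLocalization.Away.invSelf a
  let A1 : Subalgebra A A' := Algebra.adjoin A ((fun x => algebraMap A A' x * inv) '' (N : Set A))
  refine ⟨A1, ?_, fun x hx => Algebra.subset_adjoin ⟨x, hx, rfl⟩⟩
  have hA1 : A1 = Algebra.adjoin A ((fun x => algebraMap A A' x * inv) '' (N : Set A)) := rfl
  obtain ⟨t, ht⟩ := IsNoetherian.noetherian N
  have hsub : A1 ≤ Algebra.adjoin A ((fun x => algebraMap A A' x * inv) '' (t : Set A)) := by
    refine Algebra.adjoin_le ?_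
    rintro _ ⟨x, hx, rfl⟩
    have hx' : x ∈ Submodule.span A (t : Set A) := ht.symm ▸ hx
    induction hx' using Submodule.span_induction with
    | mem y hy => exact Algebra.subset_adjoin ⟨y, hy, rfl⟩
    | zero => simp only [map_zero, zero_mul]; exact zero_mem _
    | add y z hy hz ihy ihz =>
      simp only [map_add, add_mul]
      exact add_mem (ihy (ht ▸ hy)) (ihz (ht ▸ hz))
    | smul r y hy ih =>
      simp only [smul_eq_mul, map_mul, mul_assoc]
      exact mul_mem (Subalgebra.algebraMap_mem _ r) (ih (ht ▸ hy))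
  have heq : A1 = Algebra.adjoin A ((fun x => algebraMap A A' x * inv) '' (t : Set A)) :=
    le_antisymm hsub (Algebra.adjoin_mono (Set.image_mono (ht ▸ Submodule.subset_span)))
  refine Module.Finite.of_fg ?_ (N := Subalgebra.toSubmodule A1)
  rw [heq]
  refine fg_adjoin_of_finite (t.finite_toSet.image _) ?_
  rintro _ ⟨x, hx, rfl⟩
  exact hint x (ht ▸ Submodule.subset_span hx)

theorem exists_idempotent {a : A} (ha0 : a ≠ 0) {u : EGA4.Cpl A} (hune : u ≠ 0)
    (huu : u * u = algebraMap A (EGA4.Cpl A) a * u) {N : Ideal A} (huN : u ∈ N.map (algebraMap A (EGA4.Cpl A)))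
    (A1 : Subalgebra A (Localization.Away a))
    (hA1 : ∀ x ∈ N, algebraMap A (Localization.Away a) x * IsLocalization.Away.invSelf a ∈ A1) :
    ∃ e : EGA4.Cpl A ⊗[A] A1, e * e = e ∧ e ≠ 0 ∧
      ∀ x, x * u = 0 → algebraMap (EGA4.Cpl A) (EGA4.Cpl A ⊗[A] A1) x * e = 0 := by
  haveI := CplLocH7.faithfullyFlat_cpl A
  set f := algebraMap A (EGA4.Cpl A) with hf
  let A' := Localization.Away a
  have hinjA : Function.Injective (algebraMap A A') :=
    IsLocalization.injective A' (powers_le_nonZeroDivisors_of_noZeroDivisors ha0)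
  let inv : A' := IsLocalization.Away.invSelf a
  have hinv : algebraMap A A' a * inv = 1 := IsLocalization.Away.mul_invSelf a
  let C := EGA4.Cpl A ⊗[A] A1
  let Ψ : C →ₐ[A] EGA4.Cpl A ⊗[A] A' := Algebra.TensorProduct.map (AlgHom.id A (EGA4.Cpl A)) A1.val
  have hΨ : Function.Injective Ψ :=
    Module.Flat.lTensor_preserves_injective_linearMap (M := EGA4.Cpl A) A1.val.toLinearMap Subtype.val_injective
  let ι : EGA4.Cpl A → EGA4.Cpl A ⊗[A] A' := fun b => b ⊗ₜ[A] (1 : A')
  have hι : ∀ b, ι b = 0 → b = 0 := fun b hb => by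
    have h2 := Module.Flat.lTensor_preserves_injective_linearMap (M := EGA4.Cpl A) (Algebra.linearMap A A') hinjA
    have h3 : b ⊗ₜ[A] (1 : A) = 0 := h2 (by rw [map_zero, LinearMap.lTensor_tmul, Algebra.linearMap_apply, map_one]; exact hb)
    simpa using congrArg (TensorProduct.rid A (EGA4.Cpl A)) h3
  obtain ⟨e, he⟩ : ∃ e : C, Ψ e = u ⊗ₜ[A] inv := by
    suffices h : ∀ b ∈ N.map f, ∃ e : C, Ψ e = b ⊗ₜ[A] inv from h u huN
    intro b hb
    refine Submodule.span_induction (p := fun b _ => ∃ e : C, Ψ e = b ⊗ₜ[A] inv) ?_ ?_ ?_ ?_ hb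
    · rintro _ ⟨x, hx, rfl⟩
      refine ⟨1 ⊗ₜ[A] ⟨algebraMap A A' x * inv, hA1 x hx⟩, ?_⟩
      show (1 : EGA4.Cpl A) ⊗ₜ[A] (algebraMap A A' x * inv) = f x ⊗ₜ[A] inv
      rw [← Algebra.smul_def, ← TensorProduct.smul_tmul, Algebra.smul_def, mul_one]
    · exact ⟨0, by rw [map_zero, TensorProduct.zero_tmul]⟩
    · rintro x y - - ⟨ex, hex⟩ ⟨ey, hey⟩
      exact ⟨ex + ey, by rw [map_add, hex, hey, TensorProduct.add_tmul]⟩
    · rintro r x - ⟨ex, hex⟩
      refine ⟨(r ⊗ₜ[A] 1) * ex, ?_⟩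
      rw [map_mul, hex]
      show (r ⊗ₜ[A] (1 : A')) * x ⊗ₜ[A] inv = _
      rw [Algebra.TensorProduct.tmul_mul_tmul, one_mul, smul_eq_mul]
  have hee : e * e = e := hΨ (by
    rw [map_mul, he, Algebra.TensorProduct.tmul_mul_tmul, huu, show f a * u = a • u from (Algebra.smul_def a u).symm,
      TensorProduct.smul_tmul, Algebra.smul_def, ← mul_assoc, hinv, one_mul])
  have hene : e ≠ 0 := fun e0 => hune (hι u (by
    have h := congrArg (fun t => ((1 : EGA4.Cpl A) ⊗ₜ[A] algebraMap A A' a) * t) he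
    rw [e0, map_zero] at h
    simp only [mul_zero, Algebra.TensorProduct.tmul_mul_tmul, one_mul, hinv] at h
    exact h.symm))
  refine ⟨e, hee, hene, fun x hx => hΨ ?_⟩
  rw [map_mul, he, map_zero]
  show (x ⊗ₜ[A] (1 : A')) * u ⊗ₜ[A] inv = 0
  rw [Algebra.TensorProduct.tmul_mul_tmul, hx, TensorProduct.zero_tmul]

theorem false_of_idempotent (hcat : CAlg.IsCatenary (Polynomial A)) (hdim : (2 : WithBot ℕ∞) ≤ ringKrullDim A)
    {Q : Ideal (EGA4.Cpl A)} [Q.IsPrime] (K : ℕ)
    (h1 : ∀ P : Ideal (EGA4.Cpl A), P.IsPrime → Q ≤ P → P = Q ∨ P = maximalIdeal (EGA4.Cpl A))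
    {A1 : Type u} [CommRing A1] [IsDomain A1] [Algebra A A1] [Module.Finite A A1]
    (hinjA1 : Function.Injective (algebraMap A A1))
    (e : EGA4.Cpl A ⊗[A] A1) (hee : e * e = e) (hene : e ≠ 0)
    (hxe : ∀ x ∈ Q ^ K, algebraMap (EGA4.Cpl A) (EGA4.Cpl A ⊗[A] A1) x * e = 0) : False := by
  haveI := CplLocH7.isNoetherianRing_cpl A
  haveI := CplLocH7.faithfullyFlat_cpl A
  set f := algebraMap A (EGA4.Cpl A) with hf
  let C := EGA4.Cpl A ⊗[A] A1
  obtain ⟨n', hn', hen'⟩ : ∃ n' : Ideal C, n'.IsMaximal ∧ e ∉ n' := by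
    have hne : Ideal.span {1 - e} ≠ (⊤ : Ideal C) := fun ht => by
      obtain ⟨y, hy⟩ := (Ideal.span_singleton_eq_top.mp ht).exists_right_inv
      refine hene ?_
      rw [← mul_one e, ← hy, ← mul_assoc, mul_sub, mul_one, hee, sub_self, zero_mul]
    obtain ⟨n', hn', hle⟩ := Ideal.exists_le_maximal _ hne
    exact ⟨n', hn', fun he' => hn'.ne_top ((Ideal.eq_top_iff_one _).mpr (by
      have := add_mem (hle (Ideal.mem_span_singleton_self _)) he'
      rwa [sub_add_cancel] at this))⟩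
  have hQle : ∀ R : Ideal C, R.IsPrime → R ≤ n' → Q ≤ R.comap (algebraMap (EGA4.Cpl A) C) := by
    intro R hR hRn
    have hRc : (R.comap (algebraMap (EGA4.Cpl A) C)).IsPrime := Ideal.IsPrime.comap _
    refine Ideal.IsPrime.le_of_pow_le (hP := hRc) (n := K) fun x hx => ?_
    show algebraMap (EGA4.Cpl A) C x ∈ R
    have h0 : algebraMap (EGA4.Cpl A) C x * e = 0 := hxe x hx
    exact (hR.mem_or_mem (h0 ▸ R.zero_mem)).resolve_right fun h => hen' (hRn h)
  letI : Algebra A1 C := Algebra.TensorProduct.rightAlgebra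
  haveI : Module.Flat A1 C := flat_rightAlgebra (EGA4.Cpl A) A1
  let n : Ideal A1 := n'.comap (algebraMap A1 C)
  haveI hn'B : (n'.comap (algebraMap (EGA4.Cpl A) C)).IsMaximal := Ideal.isMaximal_comap_of_isIntegral_of_isMaximal n'
  haveI : n.IsPrime := Ideal.IsPrime.comap _
  haveI : n.IsMaximal := by
    refine Ideal.isMaximal_of_isIntegral_of_isMaximal_comap (R := A) n ?_
    have hcomp : n.comap (algebraMap A A1) = (maximalIdeal (EGA4.Cpl A)).comap f := by
      rw [← IsLocalRing.eq_maximalIdeal hn'B, Ideal.comap_comap, Ideal.comap_comap]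
      congr 1
      refine RingHom.ext fun r => ?_
      show (1 : EGA4.Cpl A) ⊗ₜ[A] algebraMap A A1 r = f r ⊗ₜ[A] (1 : A1)
      rw [Algebra.algebraMap_eq_smul_one, ← TensorProduct.smul_tmul, Algebra.smul_def, mul_one]
    have hl := UCat.isLocalHom_cpl A
    haveI : IsLocalHom f := hl
    rw [hcomp, IsLocalRing.maximalIdeal_comap f]
    infer_instance
  obtain ⟨r, hr, hr0, hrn⟩ := exists_between_bot_of_maximal hdim hcat hinjA1 n
  haveI : n'.LiesOver n := ⟨rfl⟩
  obtain ⟨R1, hR1n, hR1, hR1r⟩ := Ideal.exists_ideal_le_liesOver_of_le (R := A1) n' hrn.le (p := r) (q := n)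
  haveI := hR1r
  obtain ⟨R0, hR01, hR0, hR0bot⟩ := Ideal.exists_ideal_le_liesOver_of_le (R := A1) R1 hr0.le (p := (⊥ : Ideal A1)) (q := r)
  have hlt1 : R1 < n' := lt_of_le_of_ne hR1n fun e => hrn.ne (by
    rw [show r = R1.under A1 from hR1r.over, e])
  have hlt0 : R0 < R1 := lt_of_le_of_ne hR01 fun e => hr0.ne (by
    rw [show r = R1.under A1 from hR1r.over, show (⊥ : Ideal A1) = R0.under A1 from hR0bot.over, e])
  haveI := hR0
  haveI := hR1
  have l1 := Ideal.IsIntegral.comap_lt_comap (R := EGA4.Cpl A) hlt1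
  have l0 := Ideal.IsIntegral.comap_lt_comap (R := EGA4.Cpl A) hlt0
  have q1 := hQle R1 hR1 hR1n
  have q0 := hQle R0 hR0 (hR01.trans hR1n)
  rcases h1 _ (Ideal.IsPrime.comap _) q1 with e1 | e1
  · exact l0.not_ge (e1 ▸ q0)
  · exact l1.not_ge (e1 ▸ le_maximalIdeal hn'B.ne_top)


/-- A minimal prime of the completion with one-dimensional quotient forces dimension `≤ 1`. -/
theorem dim_le_one_of_minimalPrime (hcat : CAlg.IsCatenary (Polynomial A))
    {Q : Ideal (EGA4.Cpl A)} (hQ : Q ∈ minimalPrimes (EGA4.Cpl A))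
    (h1 : ∀ P : Ideal (EGA4.Cpl A), P.IsPrime → Q ≤ P → P = Q ∨ P = maximalIdeal (EGA4.Cpl A))
    (hdim : (2 : WithBot ℕ∞) ≤ ringKrullDim A) : False := by
  haveI := hQ.isPrime
  obtain ⟨a, u, K, N, ha0, hune, huu, hxu, huN, hint⟩ := exists_element hQ h1 hdim
  obtain ⟨A1, hfin, hA1⟩ := exists_finite_subalgebra a N hint
  obtain ⟨e, hee, hene, hxe⟩ := exists_idempotent ha0 hune huu huN A1 hA1
  haveI := hfin
  haveI : IsDomain (Localization.Away a) :=
    IsLocalization.isDomain_localization (powers_le_nonZeroDivisors_of_noZeroDivisors ha0)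
  exact false_of_idempotent hcat hdim K h1 (A1 := A1)
    (fun x y h => IsLocalization.injective (Localization.Away a)
      (powers_le_nonZeroDivisors_of_noZeroDivisors ha0) (congrArg Subtype.val h))
    e hee hene (fun x hx => hxe x (hxu x hx))

end Groth.Agent.Ratliff
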