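import Groth.Prelude.Def_Found
import Groth.Agent.Lib.Hironaka.Catenary
import Groth.Agent.Lib.DimFormula14.Ineq
import Groth.Agent.S9124
import Mathlib

/-! # Chains of primes in finite extensions of universally catenary local domains -/

set_option autoImplicit false
universe u

open IsLocalRing Polynomial Order

namespace Groth.Agent.Ratliff

theorem exists_prime_between {A : Type u} [CommRing A] [IsDomain A] [IsNoetherianRing A] [IsLocalRing A]
    (hdim : (2 : WithBot ℕ∞) ≤ ringKrullDim A) (hcat : CAlg.IsCatenary A[X])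
    (P M : Ideal A[X]) [P.IsPrime] [M.IsMaximal] (hle : P ≤ M) (hP : P.comap (C : A →+* A[X]) = ⊥) (hP0 : P ≠ ⊥)
    (hM : M.comap (C : A →+* A[X]) = maximalIdeal A) :
    ∃ R : Ideal A[X], R.IsPrime ∧ P < R ∧ R < M := by
  by_contra hcon
  push Not at hcon
  have hne : P ≠ M := fun e => by
    have hm : maximalIdeal A = ⊥ := by rw [← hM, ← e, hP]
    have h0 := ringKrullDim_eq_zero_of_isField (isField_iff_maximalIdeal_eq.mpr hm)
    rw [h0] at hdim
    exact absurd hdim (not_le.mpr (by decide))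
  haveI : P.LiesOver (⊥ : Ideal A) := ⟨hP.symm⟩
  have h1 := DimFormula14.height_le_one_of_disjoint P
  let T := Localization.AtPrime M
  let p0 : PrimeSpectrum A[X] := ⟨⊥, Ideal.isPrime_bot⟩
  let p1 : PrimeSpectrum A[X] := ⟨P, ‹_›⟩
  let p2 : PrimeSpectrum A[X] := ⟨M, inferInstance⟩
  have c01 : p0 ⋖ p1 := ⟨lt_of_le_of_ne (show (⊥ : Ideal A[X]) ≤ P from bot_le) fun e => hP0 (congrArg PrimeSpectrum.asIdeal e).symm,
    fun x hx1 hx2 => by
      have a1 := Ideal.height_strict_mono_of_isPrime (I := x.asIdeal) (J := P) hx2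
      have a2 := Ideal.height_strict_mono_of_isPrime (I := (⊥ : Ideal A[X])) (J := x.asIdeal) hx1
      have a3 := (Order.one_le_iff_pos.mpr (pos_of_gt a2)).trans_lt a1
      exact a3.not_ge h1⟩
  have c12 : p1 ⋖ p2 := ⟨lt_of_le_of_ne hle fun e => hne (congrArg PrimeSpectrum.asIdeal e),
    fun x hx1 hx2 => hcon x.asIdeal x.2 hx1 hx2⟩
  -- a longer chain through `mA[X]`
  have hlong : (3 : ℕ∞) ≤ M.height := by
    have hm2 : (2 : ℕ∞) ≤ (maximalIdeal A).height := by
      rw [← IsLocalRing.maximalIdeal_height_eq_ringKrullDim (R := A)] at hdim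
      exact WithBot.coe_le_coe.mp hdim
    have hlt : (maximalIdeal A).map (C : A →+* A[X]) < M := by
      refine lt_of_le_of_ne (Ideal.map_le_iff_le_comap.mpr hM.ge) fun e => ?_
      have : ((maximalIdeal A).map (C : A →+* A[X])).IsMaximal := e ▸ inferInstance
      have hX : (Polynomial.X : A[X]) ∉ (maximalIdeal A).map (C : A →+* A[X]) := fun h => by
        have := Ideal.mem_map_C_iff.mp h 1
        rw [coeff_X_one] at this
        exact this isUnit_one
      obtain ⟨y, i, hi, hy⟩ := this.exists_inv hX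
      have h0 := congrArg (fun f : A[X] => f.coeff 0) hy
      simp only [coeff_add, mul_coeff_zero, coeff_X_zero, mul_zero, zero_add, coeff_one_zero] at h0
      exact (h0 ▸ Ideal.mem_map_C_iff.mp hi 0 : (1 : A) ∈ maximalIdeal A) isUnit_one
    have hmono := Ideal.height_strict_mono_of_isPrime hlt
    rw [Polynomial.height_map_C] at hmono
    exact Order.add_one_le_of_lt (lt_of_le_of_lt hm2 hmono)
  have hTcat : CAlg.IsCatenary T := Groth.Agent.S9124.result A[X] M.primeCompl T hcat
  haveI : IsDomain T := IsLocalization.isDomain_of_atPrime T M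
  let f : PrimeSpectrum T → PrimeSpectrum A[X] := PrimeSpectrum.comap (algebraMap A[X] T)
  have hf : ∀ {a b : PrimeSpectrum T}, f a ≤ f b ↔ a ≤ b := fun {a b} =>
    (IsLocalization.orderEmbedding M.primeCompl T).le_iff_le (a := a.asIdeal) (b := b.asIdeal)
  have hpre : ∀ x : PrimeSpectrum A[X], x ≤ p2 → ∃ y : PrimeSpectrum T, f y = x := fun x hx => by
    have hd : Disjoint (M.primeCompl : Set A[X]) (x.asIdeal : Set A[X]) :=
      Set.disjoint_left.mpr fun a ha hax => ha (hx hax)
    exact ⟨⟨x.asIdeal.map (algebraMap A[X] T), IsLocalization.isPrime_of_isPrime_disjoint _ T _ x.2 hd⟩,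
      PrimeSpectrum.ext (IsLocalization.under_map_of_isPrime_disjoint M.primeCompl T x.2 hd)⟩
  obtain ⟨y0, e0⟩ := hpre p0 bot_le
  obtain ⟨y1, e1⟩ := hpre p1 c12.le
  obtain ⟨y2, e2⟩ := hpre p2 le_rfl
  have hcov : ∀ {a b : PrimeSpectrum T}, f a ⋖ f b → a ⋖ b := fun {a b} h =>
    ⟨lt_of_le_not_ge (hf.mp h.le) fun hba => h.lt.not_ge (hf.mpr hba),
      fun c h1 h2 => h.2 (lt_of_le_not_ge (hf.mpr h1.le) fun hh => h1.not_ge (hf.mp hh))
        (lt_of_le_not_ge (hf.mpr h2.le) fun hh => h2.not_ge (hf.mp hh))⟩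
  have d01 := Hironaka.coheight_eq_add_one hTcat (hcov (a := y0) (b := y1) (by rw [e0, e1]; exact c01))
  have d12 := Hironaka.coheight_eq_add_one hTcat (hcov (a := y1) (b := y2) (by rw [e1, e2]; exact c12))
  have hy2 : Order.coheight y2 = 0 := Order.coheight_eq_zero.mpr fun z hz => by
    refine hf.mp ?_
    rw [e2]
    exact show (f z).asIdeal ≤ M from fun a ha => by_contra fun hna => z.2.ne_top
      (Ideal.eq_top_of_isUnit_mem _ ha (IsLocalization.map_units T (⟨a, hna⟩ : M.primeCompl)))
  have hbot : y0.asIdeal = ⊥ := by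
    rw [eq_bot_iff]
    intro a ha
    obtain ⟨⟨b, s⟩, hbs⟩ := IsLocalization.surj M.primeCompl a
    have hb : b ∈ (f y0).asIdeal := by
      show algebraMap A[X] T b ∈ y0.asIdeal
      rw [← hbs]; exact Ideal.mul_mem_right _ _ ha
    rw [e0] at hb
    rw [Ideal.mem_bot]
    have hb0 : b = 0 := hb
    dsimp only at hbs
    rw [hb0, map_zero] at hbs
    exact (IsLocalization.map_units T s).mul_left_eq_zero.mp hbs
  have hdimT : (Order.coheight y0 : WithBot ℕ∞) = (M.height : WithBot ℕ∞) := by
    rw [Hironaka.coheight_eq_ringKrullDim_quotient, ringKrullDim_eq_of_ringEquiv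
      ((Ideal.quotEquivOfEq hbot).trans (RingEquiv.quotientBot T)), IsLocalization.AtPrime.ringKrullDim_eq_height M T]
  rw [WithBot.coe_inj] at hdimT
  rw [← hdimT, d01, d12, hy2] at hlong
  exact absurd hlong (by decide)

/-- In a finite birational-type extension of a local domain with `A[X]` catenary there are no maximal ideals of height one. -/
theorem exists_between_bot_of_maximal {A A1 : Type u} [CommRing A] [IsDomain A] [IsNoetherianRing A] [IsLocalRing A]
    (hdim : (2 : WithBot ℕ∞) ≤ ringKrullDim A) (hcat : CAlg.IsCatenary A[X])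
    [CommRing A1] [IsDomain A1] [Algebra A A1] [Module.Finite A A1]
    (hinj : Function.Injective (algebraMap A A1)) (n : Ideal A1) [n.IsMaximal] :
    ∃ r : Ideal A1, r.IsPrime ∧ ⊥ < r ∧ r < n := by
  classical
  haveI : IsNoetherianRing A1 := IsNoetherianRing.of_finite A A1
  have hover : ∀ q : Ideal A1, q.IsMaximal → q.comap (algebraMap A A1) = maximalIdeal A := fun q hq =>
    IsLocalRing.eq_maximalIdeal (Ideal.isMaximal_comap_of_isIntegral_of_isMaximal q)
  let mA1 := (maximalIdeal A).map (algebraMap A A1)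
  have hmin : ∀ q : Ideal A1, q.IsMaximal → q ∈ mA1.minimalPrimes := by
    intro q hq
    refine ⟨⟨hq.isPrime, Ideal.map_le_iff_le_comap.mpr (hover q hq).ge⟩, fun r hr hrq => ?_⟩
    haveI := hr.1
    have hr' : (r.comap (algebraMap A A1)).IsMaximal := by
      have h1 : maximalIdeal A ≤ r.comap (algebraMap A A1) := Ideal.map_le_iff_le_comap.mp hr.2
      rw [← le_antisymm h1 (le_maximalIdeal (Ideal.IsPrime.comap _).ne_top)]
      infer_instance
    exact ((Ideal.isMaximal_of_isIntegral_of_isMaximal_comap r hr').eq_of_le hq.ne_top hrq).ge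
  let others : Finset (Ideal A1) := ((Ideal.finite_minimalPrimes_of_isNoetherianRing A1 mA1).toFinset).filter
    fun q => q.IsMaximal ∧ q ≠ n
  have hnot : ¬ others.inf id ≤ n := fun h => by
    obtain ⟨q, hq, hqn⟩ := (Ideal.IsPrime.inf_le' (inferInstance : n.IsPrime)).mp h
    obtain ⟨-, hqmax, hne⟩ := Finset.mem_filter.mp hq
    exact hne (hqmax.eq_of_le (Ideal.IsMaximal.ne_top ‹_›) hqn)
  obtain ⟨z, hz, hzn⟩ := SetLike.not_le_iff_exists.mp hnot
  let φ : A[X] →ₐ[A] A1 := Polynomial.aeval z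
  letI : Algebra A[X] A1 := φ.toRingHom.toAlgebra
  haveI : IsScalarTower A A[X] A1 := IsScalarTower.of_algebraMap_eq fun a => (φ.commutes a).symm
  haveI : Algebra.IsIntegral A[X] A1 := Algebra.IsIntegral.tower_top A
  let P : Ideal A[X] := RingHom.ker φ.toRingHom
  haveI : P.IsPrime := RingHom.ker_isPrime _
  let M : Ideal A[X] := n.comap φ.toRingHom
  haveI : M.IsMaximal := Ideal.isMaximal_comap_of_isIntegral_of_isMaximal (R := A[X]) n
  have hP : P.comap (C : A →+* A[X]) = ⊥ := by
    rw [eq_bot_iff]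
    intro a ha
    have : algebraMap A A1 a = 0 := by
      rw [← φ.commutes]; exact ha
    exact Ideal.mem_bot.mpr (hinj (by rw [this, map_zero]))
  have hP0 : P ≠ ⊥ := fun e => by
    obtain ⟨g, hg, hgz⟩ := Algebra.IsIntegral.isIntegral (R := A) z
    have : g ∈ P := by
      show Polynomial.aeval z g = 0
      exact hgz
    rw [e, Ideal.mem_bot] at this
    exact hg.ne_zero this
  have hM : M.comap (C : A →+* A[X]) = maximalIdeal A := by
    rw [← hover n inferInstance, Ideal.comap_comap]
    congr 1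
    exact RingHom.ext fun a => φ.commutes a
  obtain ⟨R, hR, hPR, hRM⟩ := exists_prime_between hdim hcat P M (fun x hx => by
    show φ.toRingHom x ∈ n
    rw [RingHom.mem_ker.mp hx]; exact n.zero_mem) hP hP0 hM
  obtain ⟨r, -, hr, hrR⟩ := Ideal.exists_ideal_over_prime_of_isIntegral (R := A[X]) R (⊥ : Ideal A1)
    (by rw [← RingHom.ker_eq_comap_bot]; exact hPR.le)
  obtain ⟨n', hrn', hn', hn'M⟩ := Ideal.exists_ideal_over_prime_of_isIntegral (R := A[X]) M r
    (by rw [hrR]; exact hRM.le)
  have hn'max : n'.IsMaximal := Ideal.isMaximal_of_isIntegral_of_isMaximal_comap n' (by rw [hn'M]; infer_instance)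
  have hn'eq : n' = n := by
    by_contra hne
    have hmem : n' ∈ others := Finset.mem_filter.mpr
      ⟨(Ideal.finite_minimalPrimes_of_isNoetherianRing A1 mA1).mem_toFinset.mpr (hmin n' hn'max), hn'max, hne⟩
    have hzn' : z ∈ n' := (Finset.inf_le hmem : others.inf id ≤ n') hz
    have hX : (Polynomial.X : A[X]) ∈ M := by
      rw [← hn'M]
      show φ Polynomial.X ∈ n'
      rwa [Polynomial.aeval_X]
    have : φ Polynomial.X ∈ n := hX
    rw [Polynomial.aeval_X] at this
    exact hzn this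
  subst hn'eq
  refine ⟨r, hr, bot_lt_iff_ne_bot.mpr fun e => hPR.ne ?_, lt_of_le_of_ne hrn' fun e => hRM.ne ?_⟩
  · rw [← hrR, e, ← RingHom.ker_eq_comap_bot]; rfl
  · rw [← hrR, ← hn'M, e]

end Groth.Agent.Ratliff
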